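import Groth.Agent.InvDiffLib.Main

/-! The direct image of the differentials of an abelian scheme. -/

set_option autoImplicit false
set_option linter.style.haveILetI false

universe u

open CategoryTheory CategoryTheory.Limits AlgebraicGeometry TopologicalSpace Opposite MonoidalCategory
  CartesianMonoidalCategory

noncomputable section

namespace Groth.Agent.InvDiff

theorem push_omega {S : Scheme.{u}} (A : Over S) [GrpObj A] [IsProper A.hom] [Flat A.hom]
    [LocallyOfFinitePresentation A.hom] [GeometricallyReduced A.hom] [GeometricallyConnected A.hom] :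
    FlatMod.IsFinLocFree ((Scheme.Modules.pullback (MonObj.one (X := A)).left).obj (Omega.sheaf A.hom)) ∧
      Nonempty ((Coh.push A.hom).obj (Omega.sheaf A.hom) ≅
        (Scheme.Modules.pullback (MonObj.one (X := A)).left).obj (Omega.sheaf A.hom)) := by
  haveI : Smooth A.hom := Groth.Agent.S7795.result A
  obtain ⟨θ⟩ := (Groth.Agent.S1937.result S A).1
  let e : S ⟶ A.left := (MonObj.one (X := A)).left
  let C := Omega.conormal (MonObj.one (X := A)).left
  have hef : e ≫ A.hom = 𝟙 S := Over.w (MonObj.one (X := A))
  let adjf := Scheme.Modules.pullbackPushforwardAdjunction A.hom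
  let adje := Scheme.Modules.pullbackPushforwardAdjunction e
  haveI : IsIso (adjf.comp adje).unit := isIso_unit_comp A.hom e hef
  let eC : (Scheme.Modules.pullback e).obj (Omega.sheaf A.hom) ≅ C :=
    (Scheme.Modules.pullback e).mapIso θ ≪≫
        ((Scheme.Modules.pushforwardComp e A.hom ≪≫ Scheme.Modules.pushforwardCongr hef ≪≫
          Scheme.Modules.pushforwardId S).app
            ((Scheme.Modules.pullback e).obj ((Scheme.Modules.pullback A.hom).obj C))).symm ≪≫
        (asIso ((adjf.comp adje).unit.app C)).symm
  have hΩ : FlatMod.IsFinLocFree ((Scheme.Modules.pullback e).obj (Omega.sheaf A.hom)) :=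
    CohCmpLib.isFinLocFree_pb _ (SmDefLib.isFinLocFree_omega A.hom)
  have hC : FlatMod.IsFinLocFree C := Groth.Agent.PerfLib.isFinLocFree_of_iso eC hΩ
  haveI := isIso_unit (E := C) A.hom (H0Lib.bijective_app_of_geometrically A.hom) hC
  exact ⟨hΩ, ⟨(Coh.push A.hom).mapIso θ ≪≫ (asIso (adjf.unit.app C)).symm ≪≫ eC.symm⟩⟩

end Groth.Agent.InvDiff
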